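import Cfsg.Agent.H58.SuzWord
import Cfsg.Prelude.Def_Classification2

/-!
# An elementary abelian subgroup of order `3 ^ 5` of the Suzuki group, normalised by an
element of order eleven (helper451)

`z n = y ^ n * z 0 * y ^ (- n)` where `z 0` is in class 3A and `y` has order 11; the elements
`z 0, …, z 4` commute and `z 5 = z 0 * z 1 * z 2 ^ 2 * z 3`.  The group generated by the `z n` has
order `3 ^ r`, `r ≤ 5`, and the number of its elements fixed by `y` is a power of three which is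
congruent to `3 ^ r` modulo 11.  Every element of it is of the form
`z k ^ s * z (k + j) ^ t` with `1 ≤ j ≤ 5`, and there are elements inverting both `z 0` and `z j`.
-/

set_option autoImplicit false
set_option maxRecDepth 100000
set_option linter.constructorNameAsVariable false

namespace Cfsg.Agent.H451.QA

open Cfsg Cfsg.Spor Cfsg.Agent.KFacts.OddLift.SuzCov Cfsg.Agent.H58.SuzWord
  Cfsg.Agent.SporRec.SuzPerm

/-- the exponents of `z k`, `k ≤ 15` -/
def eTab (k i : ℕ) : ℕ :=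
  ([[1, 0, 0, 0, 0], [0, 1, 0, 0, 0], [0, 0, 1, 0, 0], [0, 0, 0, 1, 0], [0, 0, 0, 0, 1],
    [1, 1, 2, 1, 0], [0, 1, 1, 2, 1], [1, 1, 0, 2, 2], [2, 0, 2, 2, 2], [2, 1, 1, 1, 2],
    [2, 1, 2, 0, 1], [1, 0, 0, 0, 0], [0, 1, 0, 0, 0], [0, 0, 1, 0, 0], [0, 0, 0, 1, 0],
    [0, 0, 0, 0, 1]].getD k []).getD i 0

theorem eTab_rec : ∀ k : Fin 11, ∀ i : Fin 5,
    (eTab k i + eTab (k + 1) i + 2 * eTab (k + 2) i + eTab (k + 3) i) % 3 =
      eTab (k + 5) i % 3 := by
  decide +kernel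

theorem eTab_std : ∀ k : Fin 5, ∀ i : Fin 5, eTab k i = if i = k then 1 else 0 := by
  decide +kernel

/-- the decomposition of the vector with code `n` -/
def cTab (n : ℕ) : ℕ :=
  [0, 3, 6, 1, 4, 7, 2, 5, 8, 10, 13, 16, 49, 296, 320, 52, 493, 149, 11, 14, 17, 50, 151, 491,
    53, 322, 292, 19, 22, 25, 58, 112, 283, 61, 409, 206, 94, 215, 304, 341, 115, 220, 365, 274,
    152, 97, 79, 329, 43, 37, 40, 194, 76, 377, 20, 23, 26, 59, 202, 413, 62, 287, 116, 95, 331,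
    77, 196, 373, 80, 41, 44, 38, 98, 302, 211, 367, 148, 278, 337, 224, 113, 28, 31, 34, 67, 364,
    472, 70, 229, 170, 103, 179, 257, 157, 242, 473, 328, 494, 286, 106, 277, 464, 454, 455, 262,
    251, 448, 463, 139, 404, 358, 260, 305, 359, 349, 350, 128, 386, 173, 385, 160, 394, 223, 265,
    395, 131, 410, 403, 232, 319, 184, 481, 197, 449, 134, 142, 268, 295, 124, 205, 248, 374, 439,
    167, 88, 176, 338, 82, 310, 311, 85, 440, 185, 239, 430, 214, 121, 431, 482, 422, 218, 421,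
    29, 32, 35, 68, 166, 233, 71, 476, 368, 104, 466, 275, 247, 467, 446, 458, 263, 457, 107, 259,
    175, 332, 284, 490, 161, 475, 238, 140, 293, 266, 376, 169, 437, 122, 250, 203, 241, 212, 428,
    418, 419, 217, 125, 484, 427, 86, 340, 178, 89, 187, 436, 83, 313, 314, 143, 356, 400, 347,
    127, 346, 256, 355, 301, 412, 230, 401, 193, 130, 445, 323, 485, 188, 382, 383, 172, 269, 133,
    391, 158, 221, 392].getD n 0

theorem cTab_spec : ∀ v : Fin 5 → Fin 3, ∀ i : Fin 5,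
    (v i : ℕ) = (cTab (v 0 + 3 * v 1 + 9 * v 2 + 27 * v 3 + 81 * v 4) / 3 % 3 *
      eTab (cTab (v 0 + 3 * v 1 + 9 * v 2 + 27 * v 3 + 81 * v 4) / 45 % 11) i +
      cTab (v 0 + 3 * v 1 + 9 * v 2 + 27 * v 3 + 81 * v 4) % 3 *
      eTab (cTab (v 0 + 3 * v 1 + 9 * v 2 + 27 * v 3 + 81 * v 4) / 45 % 11 +
        (cTab (v 0 + 3 * v 1 + 9 * v 2 + 27 * v 3 + 81 * v 4) / 9 % 5 + 1)) i) % 3 := by
  decide +kernel

theorem eTab_cov (v : Fin 5 → Fin 3) : ∃ k < 11, ∃ j < 5, ∃ s t : ℕ, ∀ i : Fin 5,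
    (v i : ℕ) = (s * eTab k i + t * eTab (k + (j + 1)) i) % 3 :=
  ⟨_, Nat.mod_lt _ (by norm_num), _, Nat.mod_lt _ (by norm_num), _, _, cTab_spec v⟩

section core

variable {G : Type*} [Group G] {y : G} {z : ℕ → G}

theorem z_comm (hz : ∀ n, z (n + 1) = y * z n * y⁻¹) (hc : ∀ k < 5, z 0 * z k = z k * z 0)
    (n k : ℕ) (hk : k < 5) : z n * z (n + k) = z (n + k) * z n := by
  induction n with
  | zero => rw [zero_add]; exact hc k hk
  | succ n ih =>
    have e : n + 1 + k = n + k + 1 := by omega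
    have h2 : ∀ a b : G, y * a * y⁻¹ * (y * b * y⁻¹) = y * (a * b) * y⁻¹ := by
      intro a b; group
    rw [e, hz n, hz (n + k), h2, h2, ih]

theorem z_rec (hz : ∀ n, z (n + 1) = y * z n * y⁻¹) (hrel : z 5 = z 0 * z 1 * z 2 ^ 2 * z 3)
    (n : ℕ) : z (n + 5) = z n * z (n + 1) * z (n + 2) ^ 2 * z (n + 3) := by
  induction n with
  | zero => simpa using hrel
  | succ n ih =>
    have e5 : n + 1 + 5 = n + 5 + 1 := by omega
    have e2 : n + 1 + 2 = n + 2 + 1 := by omega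
    have e3 : n + 1 + 3 = n + 3 + 1 := by omega
    have h : ∀ a b c d : G, y * (a * b * c ^ 2 * d) * y⁻¹ =
        y * a * y⁻¹ * (y * b * y⁻¹) * (y * c * y⁻¹) ^ 2 * (y * d * y⁻¹) := by
      intro a b c d
      rw [conj_pow]; group
    rw [e5, e2, e3, hz (n + 5), ih, h, ← hz (n + 3), ← hz (n + 2), ← hz (n + 1), ← hz n]

theorem z_pow (hz : ∀ n, z (n + 1) = y * z n * y⁻¹) (n k : ℕ) :
    z (n + k) = y ^ n * z k * (y ^ n)⁻¹ := by
  induction n with
  | zero => simp
  | succ n ih =>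
    have e : n + 1 + k = n + k + 1 := by omega
    rw [e, hz, ih, pow_succ']
    group

theorem core [Finite G] (hz : ∀ n, z (n + 1) = y * z n * y⁻¹) (h3 : z 0 ^ 3 = 1)
    (hc : ∀ k < 5, z 0 * z k = z k * z 0) (hrel : z 5 = z 0 * z 1 * z 2 ^ 2 * z 3)
    (h11 : y ^ 11 = 1) (hne : y * z 0 ≠ z 0 * y)
    (hr : ∀ j < 5, ∃ w : G, w * z 0 * w⁻¹ = (z 0)⁻¹ ∧ w * z (j + 1) * w⁻¹ = (z (j + 1))⁻¹) :
    ∃ X : Subgroup G, Nat.card X = 243 ∧ (∀ a ∈ X, ∀ b ∈ X, a * b = b * a) ∧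
      (∀ a ∈ X, a ^ 3 = 1) ∧ (∀ a ∈ X, IsConj a a⁻¹) ∧ orderOf y = 11 ∧
      y ∈ Subgroup.normalizer (X : Set G) ∧ ∀ a ∈ X, y * a = a * y → a = 1 := by
  classical
  have hS : ∀ a ∈ {x : G | ∃ n < 5, x = z n}, ∀ b ∈ {x : G | ∃ n < 5, x = z n},
      a * b = b * a := by
    rintro _ ⟨n, hn, rfl⟩ _ ⟨m, hm, rfl⟩
    rcases le_total n m with h | h
    · obtain ⟨k, rfl⟩ := Nat.exists_eq_add_of_le h
      exact z_comm hz hc n k (by omega)
    · obtain ⟨k, rfl⟩ := Nat.exists_eq_add_of_le h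
      exact (z_comm hz hc m k (by omega)).symm
  set X : Subgroup G := Subgroup.closure {x : G | ∃ n < 5, x = z n} with hX
  have hic : IsMulCommutative X := Subgroup.isMulCommutative_closure hS
  let _ : CommGroup X := { (inferInstance : Group X) with mul_comm := hic.is_comm.comm }
  have hcomm : ∀ a ∈ X, ∀ b ∈ X, a * b = b * a := by
    intro a ha b hb
    have := mul_comm (⟨a, ha⟩ : X) ⟨b, hb⟩
    exact congrArg Subtype.val this
  have hzX : ∀ n, z n ∈ X := by
    intro n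
    induction n using Nat.strong_induction_on with
    | _ n ih =>
      by_cases h : n < 5
      · exact Subgroup.subset_closure ⟨n, h, rfl⟩
      · obtain ⟨m, rfl⟩ := Nat.exists_eq_add_of_le (not_lt.1 h)
        rw [add_comm 5 m, z_rec hz hrel]
        exact mul_mem (mul_mem (mul_mem (ih _ (by omega)) (ih _ (by omega)))
          (pow_mem (ih _ (by omega)) 2)) (ih _ (by omega))
  have hz3 : ∀ n, z n ^ 3 = 1 := by
    intro n
    have h := z_pow hz n 0
    rw [add_zero] at h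
    rw [h, conj_pow, h3, mul_one, mul_inv_cancel]
  have hyX : ∀ a ∈ X, y * a * y⁻¹ ∈ X := by
    intro a ha
    induction ha using Subgroup.closure_induction with
    | mem a ha =>
      obtain ⟨n, -, rfl⟩ := ha
      rw [← hz]; exact hzX _
    | one => rw [mul_one, mul_inv_cancel]; exact one_mem _
    | mul a b _ _ iha ihb =>
      have : y * (a * b) * y⁻¹ = y * a * y⁻¹ * (y * b * y⁻¹) := by group
      rw [this]; exact mul_mem iha ihb
    | inv a _ iha =>
      have : y * a⁻¹ * y⁻¹ = (y * a * y⁻¹)⁻¹ := by group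
      rw [this]; exact inv_mem iha
  have hynX : ∀ (n : ℕ), ∀ a ∈ X, y ^ n * a * (y ^ n)⁻¹ ∈ X := by
    intro n
    induction n with
    | zero => intro a ha; simpa using ha
    | succ n ih =>
      intro a ha
      have : y ^ (n + 1) * a * (y ^ (n + 1))⁻¹ = y * (y ^ n * a * (y ^ n)⁻¹) * y⁻¹ := by
        rw [pow_succ']; group
      rw [this]; exact hyX _ (ih a ha)
  -- the parametrisation
  let ζ : ℕ → X := fun n => ⟨z n, hzX n⟩
  have ζ3 : ∀ n, ζ n ^ 3 = 1 := fun n => Subtype.ext (hz3 n)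
  let P : (Fin 5 → ℕ) → X := fun v => ∏ i : Fin 5, ζ i ^ v i
  have Padd : ∀ v w, P (v + w) = P v * P w := by
    intro v w
    show ∏ i : Fin 5, ζ i ^ (v i + w i) = _
    rw [← Finset.prod_mul_distrib]
    exact Finset.prod_congr rfl fun i _ => pow_add _ _ _
  have Psmul : ∀ (n : ℕ) v, P (n • v) = P v ^ n := by
    intro n v
    show ∏ i : Fin 5, ζ i ^ (n * v i) = _
    rw [← Finset.prod_pow]
    exact Finset.prod_congr rfl fun i _ => by rw [mul_comm, pow_mul]
  have Pmod : ∀ v w : Fin 5 → ℕ, (∀ i, v i % 3 = w i % 3) → P v = P w := by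
    intro v w h
    refine Finset.prod_congr rfl fun i _ => ?_
    rw [pow_eq_pow_mod (v i) (ζ3 i), h i, ← pow_eq_pow_mod (w i) (ζ3 i)]
  have Pe : ∀ k < 16, P (fun i => eTab k i) = ζ k := by
    intro k
    induction k using Nat.strong_induction_on with
    | _ k ih =>
      intro hk
      by_cases h : k < 5
      · show ∏ i : Fin 5, ζ i ^ eTab k i = ζ k
        rw [Finset.prod_eq_single (⟨k, h⟩ : Fin 5)]
        · rw [eTab_std ⟨k, h⟩ ⟨k, h⟩, if_pos rfl, pow_one]
        · intro i _ hi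
          rw [eTab_std ⟨k, h⟩ i, if_neg hi, pow_zero]
        · intro hi; exact absurd (Finset.mem_univ _) hi
      · obtain ⟨m, rfl⟩ := Nat.exists_eq_add_of_le (not_lt.1 h)
        have hm : m < 11 := by omega
        have e : ζ (5 + m) = ζ m * ζ (m + 1) * ζ (m + 2) ^ 2 * ζ (m + 3) := by
          apply Subtype.ext
          show z (5 + m) = z m * z (m + 1) * z (m + 2) ^ 2 * z (m + 3)
          rw [add_comm 5 m]
          exact z_rec hz hrel m
        rw [e, ← ih m (by omega) (by omega), ← ih (m + 1) (by omega) (by omega),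
          ← ih (m + 2) (by omega) (by omega), ← ih (m + 3) (by omega) (by omega),
          ← Psmul, ← Padd, ← Padd, ← Padd]
        apply Pmod
        intro i
        rw [add_comm 5 m]
        exact (eTab_rec ⟨m, hm⟩ i).symm
  have Psurj : ∀ a : X, ∃ v, P v = a := by
    rintro ⟨a, ha⟩
    induction ha using Subgroup.closure_induction with
    | mem a ha =>
      obtain ⟨n, hn, rfl⟩ := ha
      exact ⟨_, Pe n (by omega)⟩
    | one => exact ⟨0, Finset.prod_eq_one fun i _ => pow_zero _⟩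
    | mul a b ha hb iha ihb =>
      obtain ⟨v, hv⟩ := iha
      obtain ⟨w, hw⟩ := ihb
      exact ⟨v + w, by rw [Padd, hv, hw]; rfl⟩
    | inv a ha iha =>
      obtain ⟨v, hv⟩ := iha
      refine ⟨2 • v, ?_⟩
      have h1 : P v ^ 3 = 1 := by
        rw [← Psmul]
        refine Finset.prod_eq_one fun i _ => ?_
        show ζ i ^ (3 * v i) = 1
        rw [pow_mul, ζ3, one_pow]
      rw [Psmul]
      have h2 : P v ^ 2 = (P v)⁻¹ := by
        apply eq_inv_of_mul_eq_one_left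
        rw [← pow_succ, h1]
      rw [h2, hv]
      rfl
  have h3X : ∀ a ∈ X, a ^ 3 = 1 := by
    intro a ha
    obtain ⟨v, hv⟩ := Psurj ⟨a, ha⟩
    have h1 : P v ^ 3 = 1 := by
      rw [← Psmul]
      refine Finset.prod_eq_one fun i _ => ?_
      show ζ i ^ (3 * v i) = 1
      rw [pow_mul, ζ3, one_pow]
    rw [hv] at h1
    exact congrArg Subtype.val h1
  have hcard : Nat.card X ≤ 3 ^ 5 := by
    have h1 : Function.Surjective (fun v : Fin 5 → Fin 3 => P (fun i => (v i : ℕ))) := by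
      intro a
      obtain ⟨v, hv⟩ := Psurj a
      refine ⟨fun i => ⟨v i % 3, Nat.mod_lt _ (by norm_num)⟩, ?_⟩
      rw [← hv]
      exact Pmod _ _ fun i => Nat.mod_mod _ _
    have h2 := Nat.card_le_card_of_surjective _ h1
    simpa using h2
  -- the conjugation by `y`
  let f : Function.End X := fun a => ⟨y * a * y⁻¹, hyX a a.2⟩
  have hfn : ∀ (n : ℕ) (a : X), ((f ^ n) a : G) = y ^ n * a * (y ^ n)⁻¹ := by
    intro n
    induction n with
    | zero =>
      intro a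
      rw [pow_zero, pow_zero, one_mul, inv_one, mul_one]
      rfl
    | succ n ih =>
      intro a
      rw [pow_succ']
      show y * ((f ^ n) a : G) * y⁻¹ = _
      rw [ih, pow_succ']
      group
  have hf11 : f ^ 11 ^ 1 = 1 := by
    funext a
    apply Subtype.ext
    rw [pow_one, hfn, h11, one_mul, inv_one, mul_one]
    rfl
  have : Fact (Nat.Prime 11) := ⟨by norm_num⟩
  have : Fact (Nat.Prime 3) := ⟨by norm_num⟩
  let _ : Fintype X := Fintype.ofFinite _
  have hmod := Equiv.Perm.card_fixedPoints_modEq hf11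
  let F : Subgroup X := (Subgroup.centralizer {y}).subgroupOf X
  have hF : ∀ a : X, a ∈ F ↔ f a = a := by
    intro a
    rw [Subgroup.mem_subgroupOf, Subgroup.mem_centralizer_singleton_iff, Subtype.ext_iff]
    show _ ↔ y * (a : G) * y⁻¹ = a
    rw [mul_inv_eq_iff_eq_mul]
    exact ⟨fun h => h.symm, fun h => h.symm⟩
  have hpX : IsPGroup 3 X := fun a => ⟨1, Subtype.ext (by simpa using h3X a a.2)⟩
  obtain ⟨r, hr1⟩ := IsPGroup.iff_card.1 hpX
  obtain ⟨s, hs1⟩ := IsPGroup.iff_card.1 (hpX.to_subgroup F)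
  have hFc : Fintype.card (Function.fixedPoints f) = Nat.card F := by
    rw [← Nat.card_eq_fintype_card]
    exact Nat.card_congr (Equiv.subtypeEquivRight fun a => (hF a).symm)
  rw [hFc, ← Nat.card_eq_fintype_card, hr1, hs1] at hmod
  have hr5 : r ≤ 5 := by
    rw [hr1] at hcard
    exact (Nat.pow_le_pow_iff_right (by norm_num)).1 hcard
  have hFne : F ≠ ⊤ := by
    intro h
    have h1 : ζ 0 ∈ F := by rw [h]; exact Subgroup.mem_top _
    rw [hF] at h1
    have h2 : y * z 0 * y⁻¹ = z 0 := congrArg Subtype.val h1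
    rw [mul_inv_eq_iff_eq_mul] at h2
    exact hne h2
  have hsr : s < r := by
    have h1 : Nat.card F < Nat.card X := by
      refine lt_of_le_of_ne (Subgroup.card_le_card_group F) fun h => hFne ?_
      exact Subgroup.eq_top_of_card_eq F h
    rw [hr1, hs1] at h1
    exact (Nat.pow_lt_pow_iff_right (by norm_num)).1 h1
  have hrs : r = 5 ∧ s = 0 := by
    interval_cases r <;> interval_cases s <;> first | exact ⟨rfl, rfl⟩ | (exfalso; revert hmod; decide)
  obtain ⟨rfl, rfl⟩ := hrs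
  refine ⟨X, by rw [hr1]; norm_num, hcomm, h3X, ?_, ?_, ?_, ?_⟩
  · intro a ha
    obtain ⟨v, hv⟩ := Psurj ⟨a, ha⟩
    obtain ⟨k, hk, j, hj, s, t, hst⟩ := eTab_cov (fun i => ⟨v i % 3, Nat.mod_lt _ (by norm_num)⟩)
    have h1 : (⟨a, ha⟩ : X) = ζ k ^ s * ζ (k + (j + 1)) ^ t := by
      rw [← hv, ← Pe k (by omega), ← Pe (k + (j + 1)) (by omega), ← Psmul, ← Psmul, ← Padd]
      apply Pmod
      intro i
      exact hst i
    have h2 : a = z k ^ s * z (k + (j + 1)) ^ t := congrArg Subtype.val h1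
    obtain ⟨w, hw1, hw2⟩ := hr j hj
    have h3 : a = y ^ k * (z 0 ^ s * z (j + 1) ^ t) * (y ^ k)⁻¹ := by
      rw [h2, z_pow hz k (j + 1)]
      have := z_pow hz k 0
      rw [add_zero] at this
      rw [this, conj_pow, conj_pow]
      group
    have h4 : w * (z 0 ^ s * z (j + 1) ^ t) * w⁻¹ = (z 0 ^ s * z (j + 1) ^ t)⁻¹ := by
      have e1 : w * (z 0 ^ s * z (j + 1) ^ t) * w⁻¹ =
          (w * z 0 * w⁻¹) ^ s * (w * z (j + 1) * w⁻¹) ^ t := by
        rw [conj_pow, conj_pow]; group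
      rw [e1, hw1, hw2, mul_inv_rev, inv_pow, inv_pow]
      have e2 := hcomm _ (pow_mem (inv_mem (hzX 0)) s) _ (pow_mem (inv_mem (hzX (j + 1))) t)
      rw [inv_pow, inv_pow] at e2
      exact e2
    rw [isConj_iff]
    refine ⟨y ^ k * w * (y ^ k)⁻¹, ?_⟩
    rw [h3]
    calc y ^ k * w * (y ^ k)⁻¹ * (y ^ k * (z 0 ^ s * z (j + 1) ^ t) * (y ^ k)⁻¹) *
          (y ^ k * w * (y ^ k)⁻¹)⁻¹
        = y ^ k * (w * (z 0 ^ s * z (j + 1) ^ t) * w⁻¹) * (y ^ k)⁻¹ := by group
      _ = y ^ k * (z 0 ^ s * z (j + 1) ^ t)⁻¹ * (y ^ k)⁻¹ := by rw [h4]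
      _ = (y ^ k * (z 0 ^ s * z (j + 1) ^ t) * (y ^ k)⁻¹)⁻¹ := by group
  · refine orderOf_eq_prime h11 ?_
    rintro rfl
    exact hne (by rw [one_mul, mul_one])
  · rw [Subgroup.mem_normalizer_iff]
    intro a
    refine ⟨fun h => hyX a h, fun h => ?_⟩
    have h1 := hynX 10 _ h
    have h2 : y ^ 10 * (y * a * y⁻¹) * (y ^ 10)⁻¹ = y ^ 11 * a * (y ^ 11)⁻¹ := by group
    rw [h2, h11] at h1
    simpa using h1
  · intro a ha hya
    have h1 : (⟨a, ha⟩ : X) ∈ F := by
      rw [hF]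
      apply Subtype.ext
      show y * a * y⁻¹ = a
      rw [hya, mul_inv_cancel_right]
    have h2 : F = ⊥ := Subgroup.eq_bot_of_card_eq F (by rw [hs1, pow_zero])
    rw [h2, Subgroup.mem_bot] at h1
    exact congrArg Subtype.val h1

end core

/-- the word of the element `y` of order eleven -/
def yw : List Suz.Gen := [.d, .e, .f, .b, .c, .g]

/-- a conjugate of `d e` -/
def cj (w : List Suz.Gen) : List Suz.Gen := w ++ ([.d, .e] ++ w.reverse)

/-- words of the elements `z j` -/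
def zw (j : ℕ) : List Suz.Gen :=
  cj ([[.a, .b, .g, .c, .d, .a, .b, .a, .b, .c],
    [.f, .c, .a, .b, .g, .c, .d, .a, .b, .a, .b, .c],
    [.b, .f, .g, .d, .e, .b, .c, .d, .a, .b, .a, .b, .c],
    [.g, .e, .b, .c, .d, .c, .b, .f, .d, .b, .c, .d, .a, .b, .c],
    [.d, .c, .d, .c, .b, .f, .c, .d, .b, .c, .d, .b, .c],
    [.d, .c, .b, .g, .e, .d, .c, .d, .c, .b, .f, .g, .b, .c]].getD j [])

/-- words of elements inverting `z 0` and `z (j + 1)` -/
def iw (j : ℕ) : List Suz.Gen :=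
  [[.b, .d, .c, .b, .a, .b, .d, .e, .d, .c, .d, .e, .b, .a, .b, .c, .d, .b],
    [.b, .c, .e, .d, .c, .b, .d, .g, .b, .c, .d, .e, .c, .b],
    [.d, .e, .d, .c, .g, .b, .c, .d, .c, .b, .g, .d, .e, .d],
    [.c, .f, .b, .c, .d, .c, .e, .d, .c, .b, .f, .d, .e, .b, .c],
    [.c, .e, .d, .c, .b, .a, .g, .b, .c, .d, .a, .b, .c, .d, .c, .b, .g, .e, .b]].getD j []

theorem chk_y_0 : chk2 (yw ++ zw 0) (zw 1 ++ yw) = true := by
  decide +kernel

theorem chk_y_1 : chk2 (yw ++ zw 1) (zw 2 ++ yw) = true := by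
  decide +kernel

theorem chk_y_2 : chk2 (yw ++ zw 2) (zw 3 ++ yw) = true := by
  decide +kernel

theorem chk_y_3 : chk2 (yw ++ zw 3) (zw 4 ++ yw) = true := by
  decide +kernel

theorem chk_y_4 : chk2 (yw ++ zw 4) (zw 5 ++ yw) = true := by
  decide +kernel

theorem chk_y : ∀ j : Fin 5, chk2 (yw ++ zw j) (zw (j + 1) ++ yw) = true
  | 0 => chk_y_0
  | 1 => chk_y_1
  | 2 => chk_y_2
  | 3 => chk_y_3
  | 4 => chk_y_4

theorem chk_c_0 : chk2 (zw 0 ++ zw 1) (zw 1 ++ zw 0) = true := by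
  decide +kernel

theorem chk_c_1 : chk2 (zw 0 ++ zw 2) (zw 2 ++ zw 0) = true := by
  decide +kernel

theorem chk_c_2 : chk2 (zw 0 ++ zw 3) (zw 3 ++ zw 0) = true := by
  decide +kernel

theorem chk_c_3 : chk2 (zw 0 ++ zw 4) (zw 4 ++ zw 0) = true := by
  decide +kernel

theorem chk_c : ∀ j : Fin 4, chk2 (zw 0 ++ zw (j + 1)) (zw (j + 1) ++ zw 0) = true
  | 0 => chk_c_0
  | 1 => chk_c_1
  | 2 => chk_c_2
  | 3 => chk_c_3

theorem chk_r : chk2 (zw 5) (zw 0 ++ (zw 1 ++ (zw 2 ++ (zw 2 ++ zw 3)))) = true := by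
  decide +kernel

theorem chk_o : (chk2 (pw yw 11) [] && chk2 (pw [.d, .e] 3) []) = true := by
  decide +kernel

theorem chk_n : ncm yw (zw 0) = true := by
  decide +kernel

theorem chk_i0_0 : chk2 (iw 0 ++ zw 0) ((zw 0).reverse ++ iw 0) = true := by
  decide +kernel

theorem chk_i0_1 : chk2 (iw 1 ++ zw 0) ((zw 0).reverse ++ iw 1) = true := by
  decide +kernel

theorem chk_i0_2 : chk2 (iw 2 ++ zw 0) ((zw 0).reverse ++ iw 2) = true := by
  decide +kernel

theorem chk_i0_3 : chk2 (iw 3 ++ zw 0) ((zw 0).reverse ++ iw 3) = true := by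
  decide +kernel

theorem chk_i0_4 : chk2 (iw 4 ++ zw 0) ((zw 0).reverse ++ iw 4) = true := by
  decide +kernel

theorem chk_i0 : ∀ j : Fin 5, chk2 (iw j ++ zw 0) ((zw 0).reverse ++ iw j) = true
  | 0 => chk_i0_0
  | 1 => chk_i0_1
  | 2 => chk_i0_2
  | 3 => chk_i0_3
  | 4 => chk_i0_4

theorem chk_i_0 : chk2 (iw 0 ++ zw 1) ((zw 1).reverse ++ iw 0) = true := by
  decide +kernel

theorem chk_i_1 : chk2 (iw 1 ++ zw 2) ((zw 2).reverse ++ iw 1) = true := by
  decide +kernel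

theorem chk_i_2 : chk2 (iw 2 ++ zw 3) ((zw 3).reverse ++ iw 2) = true := by
  decide +kernel

theorem chk_i_3 : chk2 (iw 3 ++ zw 4) ((zw 4).reverse ++ iw 3) = true := by
  decide +kernel

theorem chk_i_4 : chk2 (iw 4 ++ zw 5) ((zw 5).reverse ++ iw 4) = true := by
  decide +kernel

theorem chk_i : ∀ j : Fin 5,
    chk2 (iw j ++ zw (j + 1)) ((zw (j + 1)).reverse ++ iw j) = true
  | 0 => chk_i_0
  | 1 => chk_i_1
  | 2 => chk_i_2
  | 3 => chk_i_3
  | 4 => chk_i_4

/-- the elements `z n` -/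
noncomputable def zz (n : ℕ) : Suz := wd yw ^ n * wd (zw 0) * (wd yw ^ n)⁻¹

theorem zz_zero : zz 0 = wd (zw 0) := by simp [zz]

theorem zz_succ (n : ℕ) : zz (n + 1) = wd yw * zz n * (wd yw)⁻¹ := by
  unfold zz
  rw [pow_succ']
  group

theorem zz_eq (j : ℕ) (hj : j < 6) : zz j = wd (zw j) := by
  induction j with
  | zero => exact zz_zero
  | succ j ih =>
    have h := eq_of_chk (chk_y ⟨j, by omega⟩)
    rw [wd_app, wd_app] at h
    rw [zz_succ, ih (by omega), mul_inv_eq_iff_eq_mul]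
    exact h

theorem wd_cj_pow (w : List Suz.Gen) : wd (cj w) ^ 3 = 1 := by
  have h := chk_o
  rw [Bool.and_eq_true] at h
  have h2 := eq_of_chk h.2
  rw [wd_pw, wd_nil] at h2
  rw [cj, wd_app, wd_app, wd_rev, ← mul_assoc, conj_pow, h2, mul_one, mul_inv_cancel]

theorem inv_conj {w v : List Suz.Gen} (h : chk2 (w ++ v) (v.reverse ++ w) = true) :
    wd w * wd v * (wd w)⁻¹ = (wd v)⁻¹ := by
  have h1 := eq_of_chk h
  rw [wd_app, wd_app, wd_rev] at h1
  rw [mul_inv_eq_iff_eq_mul, h1]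

/-- a subgroup `3 ^ 5` of the Suzuki group with an element of order eleven in its normaliser -/
theorem suz_threefive : ∃ (X : Subgroup Spor.Suz) (y : Spor.Suz), Nat.card X = 243 ∧ (∀ a ∈ X, ∀ b ∈ X, a * b = b * a) ∧
    (∀ a ∈ X, a ^ 3 = 1) ∧ (∀ a ∈ X, IsConj a a⁻¹) ∧ orderOf y = 11 ∧ y ∈ Subgroup.normalizer (X : Set Spor.Suz) ∧
    ∀ a ∈ X, y * a = a * y → a = 1 := by
  have : Finite Suz := Nat.finite_of_card_ne_zero (by rw [S1694.result.2]; norm_num)
  obtain ⟨X, hX⟩ := core (y := wd yw) (z := zz) zz_succ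
    (by rw [zz_zero]; exact wd_cj_pow _)
    (by
      intro k hk
      rw [zz_eq 0 (by norm_num), zz_eq k (by omega)]
      rcases k with _ | k
      · rfl
      · have h := eq_of_chk (chk_c ⟨k, by omega⟩)
        rw [wd_app, wd_app] at h
        exact h)
    (by
      rw [zz_eq 5 (by norm_num), zz_eq 0 (by norm_num), zz_eq 1 (by norm_num),
        zz_eq 2 (by norm_num), zz_eq 3 (by norm_num)]
      have h := eq_of_chk chk_r
      rw [wd_app, wd_app, wd_app, wd_app] at h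
      rw [h, pow_two]
      simp only [mul_assoc])
    (by
      have h := chk_o
      rw [Bool.and_eq_true] at h
      have h2 := eq_of_chk h.1
      rwa [wd_pw, wd_nil] at h2)
    (by rw [zz_zero]; exact ne_of_ncm chk_n)
    (by
      intro j hj
      refine ⟨wd (iw j), ?_, ?_⟩
      · rw [zz_zero]
        exact inv_conj (chk_i0 ⟨j, hj⟩)
      · rw [zz_eq (j + 1) (by omega)]
        exact inv_conj (chk_i ⟨j, hj⟩))
  exact ⟨X, wd yw, hX⟩

end Cfsg.Agent.H451.QA
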